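import Mathlib
import Groth.Agent.AdicRingLib.Completion

/-!
# Completion of a finite algebra as a tensor product, for cofinal topologies
-/

set_option autoImplicit false
universe u
open scoped TensorProduct

namespace Groth.Agent.CplTensorLib

lemma mem_pow_smul_top {A₀ A : Type u} [CommRing A₀] [CommRing A] [Algebra A₀ A] (I : Ideal A₀)
    (n : ℕ) (x : A) :
    x ∈ (I ^ n • ⊤ : Submodule A₀ A) ↔ x ∈ I.map (algebraMap A₀ A) ^ n := by
  rw [Ideal.smul_top_eq_map, Submodule.restrictScalars_mem, Ideal.map_pow]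

theorem exists_algEquiv_tensor_completion {A₀ A : Type u} [CommRing A₀] [IsNoetherianRing A₀]
    [CommRing A] [Algebra A₀ A] [Module.Finite A₀ A] (I : Ideal A₀) (J : Ideal A)
    (hIJ : I.map (algebraMap A₀ A) ≤ J) (k : ℕ) (hJI : J ^ k ≤ I.map (algebraMap A₀ A)) :
    Nonempty ((A ⊗[A₀] AdicCompletion I A₀) ≃ₐ[A] AdicCompletion J A) := by
  set K := I.map (algebraMap A₀ A) with hK
  let gn : ∀ n, AdicCompletion I A₀ →ₐ[A₀] A ⧸ J ^ n := fun n =>
    (Ideal.quotientMapₐ (J ^ n) (Algebra.ofId A₀ A) (Ideal.map_le_iff_le_comap.1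
      (by rw [Ideal.map_pow]; exact Ideal.pow_right_mono hIJ n))).comp (AdicCompletion.evalₐ I n)
  have hgn : ∀ {m n : ℕ} (hle : m ≤ n),
      (Ideal.Quotient.factorₐ A₀ (Ideal.pow_le_pow_right hle)).comp (gn n) = gn m := by
    intro m n hle
    refine AlgHom.ext fun x => ?_
    induction x using AdicCompletion.induction_on with
    | _ f =>
      simp only [gn, AlgHom.comp_apply, AdicCompletion.evalₐ_mk]
      show Ideal.Quotient.mk (J ^ m) (algebraMap A₀ A (f.1 n)) =
        Ideal.Quotient.mk (J ^ m) (algebraMap A₀ A (f.1 m))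
      refine Ideal.Quotient.eq.2 ?_
      rw [← map_sub, ← neg_sub, map_neg]
      refine neg_mem (Ideal.pow_right_mono hIJ m ?_)
      rw [← Ideal.map_pow]
      refine Ideal.mem_map_of_mem _ ?_
      have := SModEq.sub_mem.1 (f.2 hle)
      rwa [smul_eq_mul, Ideal.mul_top] at this
  let g := AdicCompletion.liftAlgHom J gn hgn
  let e : A ⊗[A₀] AdicCompletion I A₀ →ₐ[A] AdicCompletion J A :=
    Algebra.TensorProduct.lift (Algebra.ofId A (AdicCompletion J A)) g (fun _ _ => Commute.all _ _)
  -- evaluation of module completion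
  let θ : ∀ n, AdicCompletion I A →ₗ[A₀] A ⧸ J ^ n := fun n =>
    (Submodule.liftQ (I ^ n • ⊤ : Submodule A₀ A) (Ideal.Quotient.mkₐ A₀ (J ^ n)).toLinearMap
      (fun x hx => by
        rw [LinearMap.mem_ker, AlgHom.toLinearMap_apply, Ideal.Quotient.mkₐ_eq_mk,
          Ideal.Quotient.eq_zero_iff_mem]
        exact Ideal.pow_right_mono hIJ n ((mem_pow_smul_top I n x).1 hx))).comp
      (AdicCompletion.eval I A n)
  have hθmk : ∀ n f, θ n (AdicCompletion.mk I A f) = Ideal.Quotient.mk (J ^ n) (f.1 n) :=
    fun n f => rfl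
  set ψ : A ⊗[A₀] AdicCompletion I A₀ → AdicCompletion I A := fun t =>
    AdicCompletion.ofTensorProduct I A (TensorProduct.comm A₀ A (AdicCompletion I A₀) t) with hψ
  have hψbij : Function.Bijective ψ :=
    (AdicCompletion.ofTensorProduct_bijective_of_finite_of_isNoetherian I A).comp
      (LinearEquiv.bijective _)
  have hcomp : ∀ n t, θ n (ψ t) = AdicCompletion.evalₐ J n (e t) := by
    intro n t
    induction t using TensorProduct.induction_on with
    | zero => simp [hψ]
    | add x y hx hy => simp only [hψ, map_add] at *; rw [hx, hy]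
    | tmul a r =>
      induction r using AdicCompletion.induction_on with
      | _ f =>
        simp only [hψ, TensorProduct.comm_tmul, AdicCompletion.ofTensorProduct_tmul]
        have h1 : θ n (AdicCompletion.mk I A₀ f • AdicCompletion.of I A a) =
            Ideal.Quotient.mk (J ^ n) (f.1 n • a) := rfl
        rw [h1]
        simp only [e, Algebra.TensorProduct.lift_tmul, map_mul, g, AdicCompletion.evalₐ_liftAlgHom,
          gn, AlgHom.comp_apply, AdicCompletion.evalₐ_mk, Algebra.ofId_apply, AlgHom.commutes]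
        rw [Algebra.smul_def, map_mul, mul_comm]
        rfl
  refine ⟨AlgEquiv.ofBijective e ⟨(injective_iff_map_eq_zero _).2 fun t ht => ?_, fun y => ?_⟩⟩
  · refine hψbij.1 ?_
    have h0 : ψ 0 = 0 := by simp [hψ]
    rw [h0]
    have h2 : ∀ n, θ n (ψ t) = 0 := fun n => by rw [hcomp, ht, map_zero]
    generalize ψ t = y at h2 ⊢
    induction y using AdicCompletion.induction_on with
    | _ f =>
      ext n
      rw [AdicCompletion.val_zero, AdicCompletion.mk_apply_coe, Submodule.mkQ_apply,
        Pi.zero_apply, Submodule.Quotient.mk_eq_zero, mem_pow_smul_top]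
      have h3 := h2 ((k + 1) * n)
      rw [hθmk, Ideal.Quotient.eq_zero_iff_mem] at h3
      have h4 : f.1 ((k + 1) * n) ∈ K ^ n := by
        refine Ideal.pow_right_mono hJI n ?_
        rw [← pow_mul]
        exact Ideal.pow_le_pow_right (Nat.mul_le_mul_right n k.le_succ) h3
      have h5 := (mem_pow_smul_top I n _).1
        (SModEq.sub_mem.1 (f.2 (show n ≤ (k + 1) * n from Nat.le_mul_of_pos_left n k.succ_pos)))
      simpa using add_mem h5 h4
  · induction y using AdicCompletion.induction_on with
    | _ f =>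
      have hf : AdicCompletion.IsAdicCauchy I A (fun n => f.1 ((k + 1) * n)) := by
        intro m n hmn
        rw [SModEq.sub_mem, mem_pow_smul_top]
        have h3 := SModEq.sub_mem.1 (f.2 (Nat.mul_le_mul_left (k + 1) hmn))
        rw [smul_eq_mul, Ideal.mul_top] at h3
        refine Ideal.pow_right_mono hJI m ?_
        rw [← pow_mul]
        exact Ideal.pow_le_pow_right (Nat.mul_le_mul_right m k.le_succ) h3
      obtain ⟨t, ht⟩ := hψbij.2 (AdicCompletion.mk I A ⟨_, hf⟩)
      refine ⟨t, AdicCompletion.ext_evalₐ fun n => ?_⟩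
      rw [← hcomp, ht, hθmk, AdicCompletion.evalₐ_mk, Ideal.Quotient.eq]
      have h3 := SModEq.sub_mem.1 (f.2 (show n ≤ (k + 1) * n from Nat.le_mul_of_pos_left n k.succ_pos))
      rw [smul_eq_mul, Ideal.mul_top] at h3
      rw [← neg_sub]
      exact neg_mem h3

/-- Ring maps out of a completion into a completion are determined on the ring. -/
theorem ringHom_ext {A B : Type u} [CommRing A] [CommRing B] {I : Ideal A} {J : Ideal B}
    (hI : I.FG) (hJ : J.FG) (g g' : AdicCompletion I A →+* AdicCompletion J B)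
    (hIJ : ∀ i ∈ I, g (algebraMap A _ i) ∈ J.map (algebraMap B (AdicCompletion J B)))
    (h : ∀ a, g (algebraMap A _ a) = g' (algebraMap A _ a)) : g = g' := by
  refine RingHom.ext fun x => AdicCompletion.ext fun n => ?_
  obtain ⟨c, hc⟩ := AdicRingLib.exists_sub_mem_map_pow hI n x
  have key : ∀ f : AdicCompletion I A →+* AdicCompletion J B,
      (∀ i ∈ I, f (algebraMap A _ i) ∈ J.map (algebraMap B (AdicCompletion J B))) →
      (f x).val n = (f (algebraMap A _ c)).val n := by
    intro f hf
    have h1 : ((I ^ n).map (algebraMap A (AdicCompletion I A))).map f ≤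
        (J ^ n).map (algebraMap B (AdicCompletion J B)) := by
      rw [Ideal.map_pow, Ideal.map_pow, Ideal.map_pow]
      refine Ideal.pow_right_mono ?_ n
      rw [Ideal.map_map, Ideal.map_le_iff_le_comap]
      exact hf
    have h2 := h1 (Ideal.mem_map_of_mem f hc)
    rw [AdicRingLib.mem_map_pow_iff hJ, map_sub, AdicCompletion.val_sub_apply, sub_eq_zero] at h2
    exact h2
  rw [key g hIJ, key g' (fun i hi => h i ▸ hIJ i hi), h]

end Groth.Agent.CplTensorLib
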